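import Cfsg.Agent.Lib.H6.ONPerm.Tab0
import Cfsg.Agent.Lib.H6.ONPerm.Tab1
import Cfsg.Agent.Lib.H6.ONPerm.Tab2
import Cfsg.Agent.Lib.H6.ONPerm.Tab3
import Cfsg.Agent.Lib.H6.ONPerm.Tab4
import Cfsg.Agent.Lib.H6.ONPerm.Tab5
import Cfsg.Agent.Lib.H6.ONPerm.Tab6
import Cfsg.Agent.Lib.H6.ONPerm.Tab7

set_option autoImplicit false
set_option maxRecDepth 1000000

/-! # the coset table as a function (generated) -/

namespace Cfsg.Agent.Lib.H6.ONPerm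

open Cfsg.Agent.Lib.H17.CosetCert Cfsg.Agent.Lib.H6.PermTab

/-- look up entry `i` in a packed table -/
noncomputable def lkB (t : BT) (i : ℕ) : ℕ :=
  force (BT.get t 1024 (Nat.div i 64)) fun leaf =>
    Nat.land (Nat.shiftRight leaf (Nat.mul 17 (Nat.mod i 64))) 131071

/-- the image of the point `i` under the letter `x` -/
noncomputable def T (x i : ℕ) : ℕ :=
  cond (Nat.beq x 0) (lkB t0 i)
    (cond (Nat.beq x 1) (lkB t1 i)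
    (cond (Nat.beq x 2) (lkB t2 i)
    (cond (Nat.beq x 3) (lkB t3 i)
    (cond (Nat.beq x 4) (lkB t4 i)
    (cond (Nat.beq x 5) (lkB t5 i)
    (cond (Nat.beq x 6) (lkB t6 i)
    (cond (Nat.beq x 7) (lkB t7 i)
    (0))))))))

/-- the inverse letter -/
def iv (x : ℕ) : ℕ := (cond (Nat.beq x 0) 1 (cond (Nat.beq x 1) 0 x))

/-- the relator words and the words `x x⁻¹` -/
def relWords : List (List ℕ) := [[2, 2], [3, 3], [4, 4], [5, 5], [6, 6], [7, 7], [2, 3, 2, 3, 2, 3], [2, 4, 2, 4], [2, 5, 2, 5], [2, 6, 2, 6], [2, 7, 2, 7], [3, 4, 3, 4, 3, 4], [3, 5, 3, 5], [3, 6, 3, 6], [3, 7, 3, 7], [4, 5, 4, 5, 4, 5, 4, 5, 4, 5, 4, 5, 4, 5, 4, 5], [4, 6, 4, 6], [4, 7, 4, 7], [5, 6, 5, 6, 5, 6], [5, 7, 5, 7], [6, 7, 6, 7, 6, 7], [2, 7, 1, 1], [2, 7, 5, 4, 5, 4, 5, 4, 5, 4], [4, 1, 5, 1, 5, 4, 5, 0, 5, 0], [5, 1, 4, 1, 4, 5, 4, 0, 4,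 0], [3, 4, 5, 0, 3, 4, 5, 0, 3, 4, 5, 0, 3, 4, 5, 0, 3, 4, 5, 0], [0, 3, 4, 0, 4, 3, 0, 3, 4, 0, 4], [0, 6, 5, 0, 5, 6, 0, 6, 5, 0, 5], [0, 1], [1, 0], [2, 2], [3, 3], [4, 4], [5, 5], [6, 6], [7, 7]]

end Cfsg.Agent.Lib.H6.ONPerm
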