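import Cfsg.Agent.Lib.H6.ONPerm.Tab

set_option autoImplicit false
set_option maxRecDepth 1000000

/-! # checks, part 1 (generated) -/

namespace Cfsg.Agent.Lib.H6.ONPerm

open Cfsg.Agent.Lib.H17.CosetCert Cfsg.Agent.Lib.H6.PermTab

set_option maxHeartbeats 0 in
theorem words15 : checkWords T relWords 15360 1024 = true := by
  decide +kernel

set_option maxHeartbeats 0 in
theorem range15 : checkRange T 8 122760 15360 1024 = true := by
  decide +kernel

set_option maxHeartbeats 0 in
theorem conn15 : checkConn T 8 15360 1024 = true := by
  decide +kernel

set_option maxHeartbeats 0 in
theorem words16 : checkWords T relWords 16384 1024 = true := by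
  decide +kernel

set_option maxHeartbeats 0 in
theorem range16 : checkRange T 8 122760 16384 1024 = true := by
  decide +kernel

set_option maxHeartbeats 0 in
theorem conn16 : checkConn T 8 16384 1024 = true := by
  decide +kernel

set_option maxHeartbeats 0 in
theorem words17 : checkWords T relWords 17408 1024 = true := by
  decide +kernel

set_option maxHeartbeats 0 in
theorem range17 : checkRange T 8 122760 17408 1024 = true := by
  decide +kernel

set_option maxHeartbeats 0 in
theorem conn17 : checkConn T 8 17408 1024 = true := by
  decide +kernel

set_option maxHeartbeats 0 in
theorem words18 : checkWords T relWords 18432 1024 = true := by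
  decide +kernel

set_option maxHeartbeats 0 in
theorem range18 : checkRange T 8 122760 18432 1024 = true := by
  decide +kernel

set_option maxHeartbeats 0 in
theorem conn18 : checkConn T 8 18432 1024 = true := by
  decide +kernel

set_option maxHeartbeats 0 in
theorem words19 : checkWords T relWords 19456 1024 = true := by
  decide +kernel

set_option maxHeartbeats 0 in
theorem range19 : checkRange T 8 122760 19456 1024 = true := by
  decide +kernel

set_option maxHeartbeats 0 in
theorem conn19 : checkConn T 8 19456 1024 = true := by
  decide +kernel

set_option maxHeartbeats 0 in
theorem words20 : checkWords T relWords 20480 1024 = true := by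
  decide +kernel

set_option maxHeartbeats 0 in
theorem range20 : checkRange T 8 122760 20480 1024 = true := by
  decide +kernel

set_option maxHeartbeats 0 in
theorem conn20 : checkConn T 8 20480 1024 = true := by
  decide +kernel

set_option maxHeartbeats 0 in
theorem words21 : checkWords T relWords 21504 1024 = true := by
  decide +kernel

set_option maxHeartbeats 0 in
theorem range21 : checkRange T 8 122760 21504 1024 = true := by
  decide +kernel

set_option maxHeartbeats 0 in
theorem conn21 : checkConn T 8 21504 1024 = true := by
  decide +kernel

set_option maxHeartbeats 0 in
theorem words22 : checkWords T relWords 22528 1024 = true := by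
  decide +kernel

set_option maxHeartbeats 0 in
theorem range22 : checkRange T 8 122760 22528 1024 = true := by
  decide +kernel

set_option maxHeartbeats 0 in
theorem conn22 : checkConn T 8 22528 1024 = true := by
  decide +kernel

set_option maxHeartbeats 0 in
theorem words23 : checkWords T relWords 23552 1024 = true := by
  decide +kernel

set_option maxHeartbeats 0 in
theorem range23 : checkRange T 8 122760 23552 1024 = true := by
  decide +kernel

set_option maxHeartbeats 0 in
theorem conn23 : checkConn T 8 23552 1024 = true := by
  decide +kernel

set_option maxHeartbeats 0 in
theorem words24 : checkWords T relWords 24576 1024 = true := by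
  decide +kernel

set_option maxHeartbeats 0 in
theorem range24 : checkRange T 8 122760 24576 1024 = true := by
  decide +kernel

set_option maxHeartbeats 0 in
theorem conn24 : checkConn T 8 24576 1024 = true := by
  decide +kernel

set_option maxHeartbeats 0 in
theorem words25 : checkWords T relWords 25600 1024 = true := by
  decide +kernel

set_option maxHeartbeats 0 in
theorem range25 : checkRange T 8 122760 25600 1024 = true := by
  decide +kernel

set_option maxHeartbeats 0 in
theorem conn25 : checkConn T 8 25600 1024 = true := by
  decide +kernel

set_option maxHeartbeats 0 in
theorem words26 : checkWords T relWords 26624 1024 = true := by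
  decide +kernel

set_option maxHeartbeats 0 in
theorem range26 : checkRange T 8 122760 26624 1024 = true := by
  decide +kernel

set_option maxHeartbeats 0 in
theorem conn26 : checkConn T 8 26624 1024 = true := by
  decide +kernel

set_option maxHeartbeats 0 in
theorem words27 : checkWords T relWords 27648 1024 = true := by
  decide +kernel

set_option maxHeartbeats 0 in
theorem range27 : checkRange T 8 122760 27648 1024 = true := by
  decide +kernel

set_option maxHeartbeats 0 in
theorem conn27 : checkConn T 8 27648 1024 = true := by
  decide +kernel

set_option maxHeartbeats 0 in
theorem words28 : checkWords T relWords 28672 1024 = true := by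
  decide +kernel

set_option maxHeartbeats 0 in
theorem range28 : checkRange T 8 122760 28672 1024 = true := by
  decide +kernel

set_option maxHeartbeats 0 in
theorem conn28 : checkConn T 8 28672 1024 = true := by
  decide +kernel

set_option maxHeartbeats 0 in
theorem words29 : checkWords T relWords 29696 1024 = true := by
  decide +kernel

set_option maxHeartbeats 0 in
theorem range29 : checkRange T 8 122760 29696 1024 = true := by
  decide +kernel

set_option maxHeartbeats 0 in
theorem conn29 : checkConn T 8 29696 1024 = true := by
  decide +kernel

end Cfsg.Agent.Lib.H6.ONPerm
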