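import Cfsg.Agent.Lib.H6.ONPerm.Tab

set_option autoImplicit false
set_option maxRecDepth 1000000

/-! # checks, part 2 (generated) -/

namespace Cfsg.Agent.Lib.H6.ONPerm

open Cfsg.Agent.Lib.H17.CosetCert Cfsg.Agent.Lib.H6.PermTab

set_option maxHeartbeats 0 in
theorem words30 : checkWords T relWords 30720 1024 = true := by
  decide +kernel

set_option maxHeartbeats 0 in
theorem range30 : checkRange T 8 122760 30720 1024 = true := by
  decide +kernel

set_option maxHeartbeats 0 in
theorem conn30 : checkConn T 8 30720 1024 = true := by
  decide +kernel

set_option maxHeartbeats 0 in
theorem words31 : checkWords T relWords 31744 1024 = true := by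
  decide +kernel

set_option maxHeartbeats 0 in
theorem range31 : checkRange T 8 122760 31744 1024 = true := by
  decide +kernel

set_option maxHeartbeats 0 in
theorem conn31 : checkConn T 8 31744 1024 = true := by
  decide +kernel

set_option maxHeartbeats 0 in
theorem words32 : checkWords T relWords 32768 1024 = true := by
  decide +kernel

set_option maxHeartbeats 0 in
theorem range32 : checkRange T 8 122760 32768 1024 = true := by
  decide +kernel

set_option maxHeartbeats 0 in
theorem conn32 : checkConn T 8 32768 1024 = true := by
  decide +kernel

set_option maxHeartbeats 0 in
theorem words33 : checkWords T relWords 33792 1024 = true := by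
  decide +kernel

set_option maxHeartbeats 0 in
theorem range33 : checkRange T 8 122760 33792 1024 = true := by
  decide +kernel

set_option maxHeartbeats 0 in
theorem conn33 : checkConn T 8 33792 1024 = true := by
  decide +kernel

set_option maxHeartbeats 0 in
theorem words34 : checkWords T relWords 34816 1024 = true := by
  decide +kernel

set_option maxHeartbeats 0 in
theorem range34 : checkRange T 8 122760 34816 1024 = true := by
  decide +kernel

set_option maxHeartbeats 0 in
theorem conn34 : checkConn T 8 34816 1024 = true := by
  decide +kernel

set_option maxHeartbeats 0 in
theorem words35 : checkWords T relWords 35840 1024 = true := by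
  decide +kernel

set_option maxHeartbeats 0 in
theorem range35 : checkRange T 8 122760 35840 1024 = true := by
  decide +kernel

set_option maxHeartbeats 0 in
theorem conn35 : checkConn T 8 35840 1024 = true := by
  decide +kernel

set_option maxHeartbeats 0 in
theorem words36 : checkWords T relWords 36864 1024 = true := by
  decide +kernel

set_option maxHeartbeats 0 in
theorem range36 : checkRange T 8 122760 36864 1024 = true := by
  decide +kernel

set_option maxHeartbeats 0 in
theorem conn36 : checkConn T 8 36864 1024 = true := by
  decide +kernel

set_option maxHeartbeats 0 in
theorem words37 : checkWords T relWords 37888 1024 = true := by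
  decide +kernel

set_option maxHeartbeats 0 in
theorem range37 : checkRange T 8 122760 37888 1024 = true := by
  decide +kernel

set_option maxHeartbeats 0 in
theorem conn37 : checkConn T 8 37888 1024 = true := by
  decide +kernel

set_option maxHeartbeats 0 in
theorem words38 : checkWords T relWords 38912 1024 = true := by
  decide +kernel

set_option maxHeartbeats 0 in
theorem range38 : checkRange T 8 122760 38912 1024 = true := by
  decide +kernel

set_option maxHeartbeats 0 in
theorem conn38 : checkConn T 8 38912 1024 = true := by
  decide +kernel

set_option maxHeartbeats 0 in
theorem words39 : checkWords T relWords 39936 1024 = true := by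
  decide +kernel

set_option maxHeartbeats 0 in
theorem range39 : checkRange T 8 122760 39936 1024 = true := by
  decide +kernel

set_option maxHeartbeats 0 in
theorem conn39 : checkConn T 8 39936 1024 = true := by
  decide +kernel

set_option maxHeartbeats 0 in
theorem words40 : checkWords T relWords 40960 1024 = true := by
  decide +kernel

set_option maxHeartbeats 0 in
theorem range40 : checkRange T 8 122760 40960 1024 = true := by
  decide +kernel

set_option maxHeartbeats 0 in
theorem conn40 : checkConn T 8 40960 1024 = true := by
  decide +kernel

set_option maxHeartbeats 0 in
theorem words41 : checkWords T relWords 41984 1024 = true := by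
  decide +kernel

set_option maxHeartbeats 0 in
theorem range41 : checkRange T 8 122760 41984 1024 = true := by
  decide +kernel

set_option maxHeartbeats 0 in
theorem conn41 : checkConn T 8 41984 1024 = true := by
  decide +kernel

set_option maxHeartbeats 0 in
theorem words42 : checkWords T relWords 43008 1024 = true := by
  decide +kernel

set_option maxHeartbeats 0 in
theorem range42 : checkRange T 8 122760 43008 1024 = true := by
  decide +kernel

set_option maxHeartbeats 0 in
theorem conn42 : checkConn T 8 43008 1024 = true := by
  decide +kernel

set_option maxHeartbeats 0 in
theorem words43 : checkWords T relWords 44032 1024 = true := by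
  decide +kernel

set_option maxHeartbeats 0 in
theorem range43 : checkRange T 8 122760 44032 1024 = true := by
  decide +kernel

set_option maxHeartbeats 0 in
theorem conn43 : checkConn T 8 44032 1024 = true := by
  decide +kernel

set_option maxHeartbeats 0 in
theorem words44 : checkWords T relWords 45056 1024 = true := by
  decide +kernel

set_option maxHeartbeats 0 in
theorem range44 : checkRange T 8 122760 45056 1024 = true := by
  decide +kernel

set_option maxHeartbeats 0 in
theorem conn44 : checkConn T 8 45056 1024 = true := by
  decide +kernel

end Cfsg.Agent.Lib.H6.ONPerm
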