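import Cfsg.Agent.Lib.H6.ONPerm.Tab

set_option autoImplicit false
set_option maxRecDepth 1000000

/-! # checks, part 3 (generated) -/

namespace Cfsg.Agent.Lib.H6.ONPerm

open Cfsg.Agent.Lib.H17.CosetCert Cfsg.Agent.Lib.H6.PermTab

set_option maxHeartbeats 0 in
theorem words45 : checkWords T relWords 46080 1024 = true := by
  decide +kernel

set_option maxHeartbeats 0 in
theorem range45 : checkRange T 8 122760 46080 1024 = true := by
  decide +kernel

set_option maxHeartbeats 0 in
theorem conn45 : checkConn T 8 46080 1024 = true := by
  decide +kernel

set_option maxHeartbeats 0 in
theorem words46 : checkWords T relWords 47104 1024 = true := by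
  decide +kernel

set_option maxHeartbeats 0 in
theorem range46 : checkRange T 8 122760 47104 1024 = true := by
  decide +kernel

set_option maxHeartbeats 0 in
theorem conn46 : checkConn T 8 47104 1024 = true := by
  decide +kernel

set_option maxHeartbeats 0 in
theorem words47 : checkWords T relWords 48128 1024 = true := by
  decide +kernel

set_option maxHeartbeats 0 in
theorem range47 : checkRange T 8 122760 48128 1024 = true := by
  decide +kernel

set_option maxHeartbeats 0 in
theorem conn47 : checkConn T 8 48128 1024 = true := by
  decide +kernel

set_option maxHeartbeats 0 in
theorem words48 : checkWords T relWords 49152 1024 = true := by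
  decide +kernel

set_option maxHeartbeats 0 in
theorem range48 : checkRange T 8 122760 49152 1024 = true := by
  decide +kernel

set_option maxHeartbeats 0 in
theorem conn48 : checkConn T 8 49152 1024 = true := by
  decide +kernel

set_option maxHeartbeats 0 in
theorem words49 : checkWords T relWords 50176 1024 = true := by
  decide +kernel

set_option maxHeartbeats 0 in
theorem range49 : checkRange T 8 122760 50176 1024 = true := by
  decide +kernel

set_option maxHeartbeats 0 in
theorem conn49 : checkConn T 8 50176 1024 = true := by
  decide +kernel

set_option maxHeartbeats 0 in
theorem words50 : checkWords T relWords 51200 1024 = true := by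
  decide +kernel

set_option maxHeartbeats 0 in
theorem range50 : checkRange T 8 122760 51200 1024 = true := by
  decide +kernel

set_option maxHeartbeats 0 in
theorem conn50 : checkConn T 8 51200 1024 = true := by
  decide +kernel

set_option maxHeartbeats 0 in
theorem words51 : checkWords T relWords 52224 1024 = true := by
  decide +kernel

set_option maxHeartbeats 0 in
theorem range51 : checkRange T 8 122760 52224 1024 = true := by
  decide +kernel

set_option maxHeartbeats 0 in
theorem conn51 : checkConn T 8 52224 1024 = true := by
  decide +kernel

set_option maxHeartbeats 0 in
theorem words52 : checkWords T relWords 53248 1024 = true := by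
  decide +kernel

set_option maxHeartbeats 0 in
theorem range52 : checkRange T 8 122760 53248 1024 = true := by
  decide +kernel

set_option maxHeartbeats 0 in
theorem conn52 : checkConn T 8 53248 1024 = true := by
  decide +kernel

set_option maxHeartbeats 0 in
theorem words53 : checkWords T relWords 54272 1024 = true := by
  decide +kernel

set_option maxHeartbeats 0 in
theorem range53 : checkRange T 8 122760 54272 1024 = true := by
  decide +kernel

set_option maxHeartbeats 0 in
theorem conn53 : checkConn T 8 54272 1024 = true := by
  decide +kernel

set_option maxHeartbeats 0 in
theorem words54 : checkWords T relWords 55296 1024 = true := by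
  decide +kernel

set_option maxHeartbeats 0 in
theorem range54 : checkRange T 8 122760 55296 1024 = true := by
  decide +kernel

set_option maxHeartbeats 0 in
theorem conn54 : checkConn T 8 55296 1024 = true := by
  decide +kernel

set_option maxHeartbeats 0 in
theorem words55 : checkWords T relWords 56320 1024 = true := by
  decide +kernel

set_option maxHeartbeats 0 in
theorem range55 : checkRange T 8 122760 56320 1024 = true := by
  decide +kernel

set_option maxHeartbeats 0 in
theorem conn55 : checkConn T 8 56320 1024 = true := by
  decide +kernel

set_option maxHeartbeats 0 in
theorem words56 : checkWords T relWords 57344 1024 = true := by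
  decide +kernel

set_option maxHeartbeats 0 in
theorem range56 : checkRange T 8 122760 57344 1024 = true := by
  decide +kernel

set_option maxHeartbeats 0 in
theorem conn56 : checkConn T 8 57344 1024 = true := by
  decide +kernel

set_option maxHeartbeats 0 in
theorem words57 : checkWords T relWords 58368 1024 = true := by
  decide +kernel

set_option maxHeartbeats 0 in
theorem range57 : checkRange T 8 122760 58368 1024 = true := by
  decide +kernel

set_option maxHeartbeats 0 in
theorem conn57 : checkConn T 8 58368 1024 = true := by
  decide +kernel

set_option maxHeartbeats 0 in
theorem words58 : checkWords T relWords 59392 1024 = true := by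
  decide +kernel

set_option maxHeartbeats 0 in
theorem range58 : checkRange T 8 122760 59392 1024 = true := by
  decide +kernel

set_option maxHeartbeats 0 in
theorem conn58 : checkConn T 8 59392 1024 = true := by
  decide +kernel

set_option maxHeartbeats 0 in
theorem words59 : checkWords T relWords 60416 1024 = true := by
  decide +kernel

set_option maxHeartbeats 0 in
theorem range59 : checkRange T 8 122760 60416 1024 = true := by
  decide +kernel

set_option maxHeartbeats 0 in
theorem conn59 : checkConn T 8 60416 1024 = true := by
  decide +kernel

end Cfsg.Agent.Lib.H6.ONPerm
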