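import Cfsg.Agent.Lib.H6.ONPerm.Tab

set_option autoImplicit false
set_option maxRecDepth 1000000

/-! # checks, part 4 (generated) -/

namespace Cfsg.Agent.Lib.H6.ONPerm

open Cfsg.Agent.Lib.H17.CosetCert Cfsg.Agent.Lib.H6.PermTab

set_option maxHeartbeats 0 in
theorem words60 : checkWords T relWords 61440 1024 = true := by
  decide +kernel

set_option maxHeartbeats 0 in
theorem range60 : checkRange T 8 122760 61440 1024 = true := by
  decide +kernel

set_option maxHeartbeats 0 in
theorem conn60 : checkConn T 8 61440 1024 = true := by
  decide +kernel

set_option maxHeartbeats 0 in
theorem words61 : checkWords T relWords 62464 1024 = true := by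
  decide +kernel

set_option maxHeartbeats 0 in
theorem range61 : checkRange T 8 122760 62464 1024 = true := by
  decide +kernel

set_option maxHeartbeats 0 in
theorem conn61 : checkConn T 8 62464 1024 = true := by
  decide +kernel

set_option maxHeartbeats 0 in
theorem words62 : checkWords T relWords 63488 1024 = true := by
  decide +kernel

set_option maxHeartbeats 0 in
theorem range62 : checkRange T 8 122760 63488 1024 = true := by
  decide +kernel

set_option maxHeartbeats 0 in
theorem conn62 : checkConn T 8 63488 1024 = true := by
  decide +kernel

set_option maxHeartbeats 0 in
theorem words63 : checkWords T relWords 64512 1024 = true := by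
  decide +kernel

set_option maxHeartbeats 0 in
theorem range63 : checkRange T 8 122760 64512 1024 = true := by
  decide +kernel

set_option maxHeartbeats 0 in
theorem conn63 : checkConn T 8 64512 1024 = true := by
  decide +kernel

set_option maxHeartbeats 0 in
theorem words64 : checkWords T relWords 65536 1024 = true := by
  decide +kernel

set_option maxHeartbeats 0 in
theorem range64 : checkRange T 8 122760 65536 1024 = true := by
  decide +kernel

set_option maxHeartbeats 0 in
theorem conn64 : checkConn T 8 65536 1024 = true := by
  decide +kernel

set_option maxHeartbeats 0 in
theorem words65 : checkWords T relWords 66560 1024 = true := by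
  decide +kernel

set_option maxHeartbeats 0 in
theorem range65 : checkRange T 8 122760 66560 1024 = true := by
  decide +kernel

set_option maxHeartbeats 0 in
theorem conn65 : checkConn T 8 66560 1024 = true := by
  decide +kernel

set_option maxHeartbeats 0 in
theorem words66 : checkWords T relWords 67584 1024 = true := by
  decide +kernel

set_option maxHeartbeats 0 in
theorem range66 : checkRange T 8 122760 67584 1024 = true := by
  decide +kernel

set_option maxHeartbeats 0 in
theorem conn66 : checkConn T 8 67584 1024 = true := by
  decide +kernel

set_option maxHeartbeats 0 in
theorem words67 : checkWords T relWords 68608 1024 = true := by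
  decide +kernel

set_option maxHeartbeats 0 in
theorem range67 : checkRange T 8 122760 68608 1024 = true := by
  decide +kernel

set_option maxHeartbeats 0 in
theorem conn67 : checkConn T 8 68608 1024 = true := by
  decide +kernel

set_option maxHeartbeats 0 in
theorem words68 : checkWords T relWords 69632 1024 = true := by
  decide +kernel

set_option maxHeartbeats 0 in
theorem range68 : checkRange T 8 122760 69632 1024 = true := by
  decide +kernel

set_option maxHeartbeats 0 in
theorem conn68 : checkConn T 8 69632 1024 = true := by
  decide +kernel

set_option maxHeartbeats 0 in
theorem words69 : checkWords T relWords 70656 1024 = true := by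
  decide +kernel

set_option maxHeartbeats 0 in
theorem range69 : checkRange T 8 122760 70656 1024 = true := by
  decide +kernel

set_option maxHeartbeats 0 in
theorem conn69 : checkConn T 8 70656 1024 = true := by
  decide +kernel

set_option maxHeartbeats 0 in
theorem words70 : checkWords T relWords 71680 1024 = true := by
  decide +kernel

set_option maxHeartbeats 0 in
theorem range70 : checkRange T 8 122760 71680 1024 = true := by
  decide +kernel

set_option maxHeartbeats 0 in
theorem conn70 : checkConn T 8 71680 1024 = true := by
  decide +kernel

set_option maxHeartbeats 0 in
theorem words71 : checkWords T relWords 72704 1024 = true := by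
  decide +kernel

set_option maxHeartbeats 0 in
theorem range71 : checkRange T 8 122760 72704 1024 = true := by
  decide +kernel

set_option maxHeartbeats 0 in
theorem conn71 : checkConn T 8 72704 1024 = true := by
  decide +kernel

set_option maxHeartbeats 0 in
theorem words72 : checkWords T relWords 73728 1024 = true := by
  decide +kernel

set_option maxHeartbeats 0 in
theorem range72 : checkRange T 8 122760 73728 1024 = true := by
  decide +kernel

set_option maxHeartbeats 0 in
theorem conn72 : checkConn T 8 73728 1024 = true := by
  decide +kernel

set_option maxHeartbeats 0 in
theorem words73 : checkWords T relWords 74752 1024 = true := by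
  decide +kernel

set_option maxHeartbeats 0 in
theorem range73 : checkRange T 8 122760 74752 1024 = true := by
  decide +kernel

set_option maxHeartbeats 0 in
theorem conn73 : checkConn T 8 74752 1024 = true := by
  decide +kernel

set_option maxHeartbeats 0 in
theorem words74 : checkWords T relWords 75776 1024 = true := by
  decide +kernel

set_option maxHeartbeats 0 in
theorem range74 : checkRange T 8 122760 75776 1024 = true := by
  decide +kernel

set_option maxHeartbeats 0 in
theorem conn74 : checkConn T 8 75776 1024 = true := by
  decide +kernel

end Cfsg.Agent.Lib.H6.ONPerm
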