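import Cfsg.Agent.Lib.H6.ONPerm.Tab

set_option autoImplicit false
set_option maxRecDepth 1000000

/-! # checks, part 5 (generated) -/

namespace Cfsg.Agent.Lib.H6.ONPerm

open Cfsg.Agent.Lib.H17.CosetCert Cfsg.Agent.Lib.H6.PermTab

set_option maxHeartbeats 0 in
theorem words75 : checkWords T relWords 76800 1024 = true := by
  decide +kernel

set_option maxHeartbeats 0 in
theorem range75 : checkRange T 8 122760 76800 1024 = true := by
  decide +kernel

set_option maxHeartbeats 0 in
theorem conn75 : checkConn T 8 76800 1024 = true := by
  decide +kernel

set_option maxHeartbeats 0 in
theorem words76 : checkWords T relWords 77824 1024 = true := by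
  decide +kernel

set_option maxHeartbeats 0 in
theorem range76 : checkRange T 8 122760 77824 1024 = true := by
  decide +kernel

set_option maxHeartbeats 0 in
theorem conn76 : checkConn T 8 77824 1024 = true := by
  decide +kernel

set_option maxHeartbeats 0 in
theorem words77 : checkWords T relWords 78848 1024 = true := by
  decide +kernel

set_option maxHeartbeats 0 in
theorem range77 : checkRange T 8 122760 78848 1024 = true := by
  decide +kernel

set_option maxHeartbeats 0 in
theorem conn77 : checkConn T 8 78848 1024 = true := by
  decide +kernel

set_option maxHeartbeats 0 in
theorem words78 : checkWords T relWords 79872 1024 = true := by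
  decide +kernel

set_option maxHeartbeats 0 in
theorem range78 : checkRange T 8 122760 79872 1024 = true := by
  decide +kernel

set_option maxHeartbeats 0 in
theorem conn78 : checkConn T 8 79872 1024 = true := by
  decide +kernel

set_option maxHeartbeats 0 in
theorem words79 : checkWords T relWords 80896 1024 = true := by
  decide +kernel

set_option maxHeartbeats 0 in
theorem range79 : checkRange T 8 122760 80896 1024 = true := by
  decide +kernel

set_option maxHeartbeats 0 in
theorem conn79 : checkConn T 8 80896 1024 = true := by
  decide +kernel

set_option maxHeartbeats 0 in
theorem words80 : checkWords T relWords 81920 1024 = true := by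
  decide +kernel

set_option maxHeartbeats 0 in
theorem range80 : checkRange T 8 122760 81920 1024 = true := by
  decide +kernel

set_option maxHeartbeats 0 in
theorem conn80 : checkConn T 8 81920 1024 = true := by
  decide +kernel

set_option maxHeartbeats 0 in
theorem words81 : checkWords T relWords 82944 1024 = true := by
  decide +kernel

set_option maxHeartbeats 0 in
theorem range81 : checkRange T 8 122760 82944 1024 = true := by
  decide +kernel

set_option maxHeartbeats 0 in
theorem conn81 : checkConn T 8 82944 1024 = true := by
  decide +kernel

set_option maxHeartbeats 0 in
theorem words82 : checkWords T relWords 83968 1024 = true := by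
  decide +kernel

set_option maxHeartbeats 0 in
theorem range82 : checkRange T 8 122760 83968 1024 = true := by
  decide +kernel

set_option maxHeartbeats 0 in
theorem conn82 : checkConn T 8 83968 1024 = true := by
  decide +kernel

set_option maxHeartbeats 0 in
theorem words83 : checkWords T relWords 84992 1024 = true := by
  decide +kernel

set_option maxHeartbeats 0 in
theorem range83 : checkRange T 8 122760 84992 1024 = true := by
  decide +kernel

set_option maxHeartbeats 0 in
theorem conn83 : checkConn T 8 84992 1024 = true := by
  decide +kernel

set_option maxHeartbeats 0 in
theorem words84 : checkWords T relWords 86016 1024 = true := by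
  decide +kernel

set_option maxHeartbeats 0 in
theorem range84 : checkRange T 8 122760 86016 1024 = true := by
  decide +kernel

set_option maxHeartbeats 0 in
theorem conn84 : checkConn T 8 86016 1024 = true := by
  decide +kernel

set_option maxHeartbeats 0 in
theorem words85 : checkWords T relWords 87040 1024 = true := by
  decide +kernel

set_option maxHeartbeats 0 in
theorem range85 : checkRange T 8 122760 87040 1024 = true := by
  decide +kernel

set_option maxHeartbeats 0 in
theorem conn85 : checkConn T 8 87040 1024 = true := by
  decide +kernel

set_option maxHeartbeats 0 in
theorem words86 : checkWords T relWords 88064 1024 = true := by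
  decide +kernel

set_option maxHeartbeats 0 in
theorem range86 : checkRange T 8 122760 88064 1024 = true := by
  decide +kernel

set_option maxHeartbeats 0 in
theorem conn86 : checkConn T 8 88064 1024 = true := by
  decide +kernel

set_option maxHeartbeats 0 in
theorem words87 : checkWords T relWords 89088 1024 = true := by
  decide +kernel

set_option maxHeartbeats 0 in
theorem range87 : checkRange T 8 122760 89088 1024 = true := by
  decide +kernel

set_option maxHeartbeats 0 in
theorem conn87 : checkConn T 8 89088 1024 = true := by
  decide +kernel

set_option maxHeartbeats 0 in
theorem words88 : checkWords T relWords 90112 1024 = true := by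
  decide +kernel

set_option maxHeartbeats 0 in
theorem range88 : checkRange T 8 122760 90112 1024 = true := by
  decide +kernel

set_option maxHeartbeats 0 in
theorem conn88 : checkConn T 8 90112 1024 = true := by
  decide +kernel

set_option maxHeartbeats 0 in
theorem words89 : checkWords T relWords 91136 1024 = true := by
  decide +kernel

set_option maxHeartbeats 0 in
theorem range89 : checkRange T 8 122760 91136 1024 = true := by
  decide +kernel

set_option maxHeartbeats 0 in
theorem conn89 : checkConn T 8 91136 1024 = true := by
  decide +kernel

end Cfsg.Agent.Lib.H6.ONPerm
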