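import Cfsg.Agent.Lib.H6.ONPerm.Tab

set_option autoImplicit false
set_option maxRecDepth 1000000

/-! # checks, part 6 (generated) -/

namespace Cfsg.Agent.Lib.H6.ONPerm

open Cfsg.Agent.Lib.H17.CosetCert Cfsg.Agent.Lib.H6.PermTab

set_option maxHeartbeats 0 in
theorem words90 : checkWords T relWords 92160 1024 = true := by
  decide +kernel

set_option maxHeartbeats 0 in
theorem range90 : checkRange T 8 122760 92160 1024 = true := by
  decide +kernel

set_option maxHeartbeats 0 in
theorem conn90 : checkConn T 8 92160 1024 = true := by
  decide +kernel

set_option maxHeartbeats 0 in
theorem words91 : checkWords T relWords 93184 1024 = true := by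
  decide +kernel

set_option maxHeartbeats 0 in
theorem range91 : checkRange T 8 122760 93184 1024 = true := by
  decide +kernel

set_option maxHeartbeats 0 in
theorem conn91 : checkConn T 8 93184 1024 = true := by
  decide +kernel

set_option maxHeartbeats 0 in
theorem words92 : checkWords T relWords 94208 1024 = true := by
  decide +kernel

set_option maxHeartbeats 0 in
theorem range92 : checkRange T 8 122760 94208 1024 = true := by
  decide +kernel

set_option maxHeartbeats 0 in
theorem conn92 : checkConn T 8 94208 1024 = true := by
  decide +kernel

set_option maxHeartbeats 0 in
theorem words93 : checkWords T relWords 95232 1024 = true := by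
  decide +kernel

set_option maxHeartbeats 0 in
theorem range93 : checkRange T 8 122760 95232 1024 = true := by
  decide +kernel

set_option maxHeartbeats 0 in
theorem conn93 : checkConn T 8 95232 1024 = true := by
  decide +kernel

set_option maxHeartbeats 0 in
theorem words94 : checkWords T relWords 96256 1024 = true := by
  decide +kernel

set_option maxHeartbeats 0 in
theorem range94 : checkRange T 8 122760 96256 1024 = true := by
  decide +kernel

set_option maxHeartbeats 0 in
theorem conn94 : checkConn T 8 96256 1024 = true := by
  decide +kernel

set_option maxHeartbeats 0 in
theorem words95 : checkWords T relWords 97280 1024 = true := by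
  decide +kernel

set_option maxHeartbeats 0 in
theorem range95 : checkRange T 8 122760 97280 1024 = true := by
  decide +kernel

set_option maxHeartbeats 0 in
theorem conn95 : checkConn T 8 97280 1024 = true := by
  decide +kernel

set_option maxHeartbeats 0 in
theorem words96 : checkWords T relWords 98304 1024 = true := by
  decide +kernel

set_option maxHeartbeats 0 in
theorem range96 : checkRange T 8 122760 98304 1024 = true := by
  decide +kernel

set_option maxHeartbeats 0 in
theorem conn96 : checkConn T 8 98304 1024 = true := by
  decide +kernel

set_option maxHeartbeats 0 in
theorem words97 : checkWords T relWords 99328 1024 = true := by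
  decide +kernel

set_option maxHeartbeats 0 in
theorem range97 : checkRange T 8 122760 99328 1024 = true := by
  decide +kernel

set_option maxHeartbeats 0 in
theorem conn97 : checkConn T 8 99328 1024 = true := by
  decide +kernel

set_option maxHeartbeats 0 in
theorem words98 : checkWords T relWords 100352 1024 = true := by
  decide +kernel

set_option maxHeartbeats 0 in
theorem range98 : checkRange T 8 122760 100352 1024 = true := by
  decide +kernel

set_option maxHeartbeats 0 in
theorem conn98 : checkConn T 8 100352 1024 = true := by
  decide +kernel

set_option maxHeartbeats 0 in
theorem words99 : checkWords T relWords 101376 1024 = true := by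
  decide +kernel

set_option maxHeartbeats 0 in
theorem range99 : checkRange T 8 122760 101376 1024 = true := by
  decide +kernel

set_option maxHeartbeats 0 in
theorem conn99 : checkConn T 8 101376 1024 = true := by
  decide +kernel

set_option maxHeartbeats 0 in
theorem words100 : checkWords T relWords 102400 1024 = true := by
  decide +kernel

set_option maxHeartbeats 0 in
theorem range100 : checkRange T 8 122760 102400 1024 = true := by
  decide +kernel

set_option maxHeartbeats 0 in
theorem conn100 : checkConn T 8 102400 1024 = true := by
  decide +kernel

set_option maxHeartbeats 0 in
theorem words101 : checkWords T relWords 103424 1024 = true := by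
  decide +kernel

set_option maxHeartbeats 0 in
theorem range101 : checkRange T 8 122760 103424 1024 = true := by
  decide +kernel

set_option maxHeartbeats 0 in
theorem conn101 : checkConn T 8 103424 1024 = true := by
  decide +kernel

set_option maxHeartbeats 0 in
theorem words102 : checkWords T relWords 104448 1024 = true := by
  decide +kernel

set_option maxHeartbeats 0 in
theorem range102 : checkRange T 8 122760 104448 1024 = true := by
  decide +kernel

set_option maxHeartbeats 0 in
theorem conn102 : checkConn T 8 104448 1024 = true := by
  decide +kernel

set_option maxHeartbeats 0 in
theorem words103 : checkWords T relWords 105472 1024 = true := by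
  decide +kernel

set_option maxHeartbeats 0 in
theorem range103 : checkRange T 8 122760 105472 1024 = true := by
  decide +kernel

set_option maxHeartbeats 0 in
theorem conn103 : checkConn T 8 105472 1024 = true := by
  decide +kernel

set_option maxHeartbeats 0 in
theorem words104 : checkWords T relWords 106496 1024 = true := by
  decide +kernel

set_option maxHeartbeats 0 in
theorem range104 : checkRange T 8 122760 106496 1024 = true := by
  decide +kernel

set_option maxHeartbeats 0 in
theorem conn104 : checkConn T 8 106496 1024 = true := by
  decide +kernel

end Cfsg.Agent.Lib.H6.ONPerm
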