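import Cfsg.Agent.Lib.H6.ONPerm.Tab

set_option autoImplicit false
set_option maxRecDepth 1000000

/-! # checks, part 7 (generated) -/

namespace Cfsg.Agent.Lib.H6.ONPerm

open Cfsg.Agent.Lib.H17.CosetCert Cfsg.Agent.Lib.H6.PermTab

set_option maxHeartbeats 0 in
theorem words105 : checkWords T relWords 107520 1024 = true := by
  decide +kernel

set_option maxHeartbeats 0 in
theorem range105 : checkRange T 8 122760 107520 1024 = true := by
  decide +kernel

set_option maxHeartbeats 0 in
theorem conn105 : checkConn T 8 107520 1024 = true := by
  decide +kernel

set_option maxHeartbeats 0 in
theorem words106 : checkWords T relWords 108544 1024 = true := by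
  decide +kernel

set_option maxHeartbeats 0 in
theorem range106 : checkRange T 8 122760 108544 1024 = true := by
  decide +kernel

set_option maxHeartbeats 0 in
theorem conn106 : checkConn T 8 108544 1024 = true := by
  decide +kernel

set_option maxHeartbeats 0 in
theorem words107 : checkWords T relWords 109568 1024 = true := by
  decide +kernel

set_option maxHeartbeats 0 in
theorem range107 : checkRange T 8 122760 109568 1024 = true := by
  decide +kernel

set_option maxHeartbeats 0 in
theorem conn107 : checkConn T 8 109568 1024 = true := by
  decide +kernel

set_option maxHeartbeats 0 in
theorem words108 : checkWords T relWords 110592 1024 = true := by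
  decide +kernel

set_option maxHeartbeats 0 in
theorem range108 : checkRange T 8 122760 110592 1024 = true := by
  decide +kernel

set_option maxHeartbeats 0 in
theorem conn108 : checkConn T 8 110592 1024 = true := by
  decide +kernel

set_option maxHeartbeats 0 in
theorem words109 : checkWords T relWords 111616 1024 = true := by
  decide +kernel

set_option maxHeartbeats 0 in
theorem range109 : checkRange T 8 122760 111616 1024 = true := by
  decide +kernel

set_option maxHeartbeats 0 in
theorem conn109 : checkConn T 8 111616 1024 = true := by
  decide +kernel

set_option maxHeartbeats 0 in
theorem words110 : checkWords T relWords 112640 1024 = true := by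
  decide +kernel

set_option maxHeartbeats 0 in
theorem range110 : checkRange T 8 122760 112640 1024 = true := by
  decide +kernel

set_option maxHeartbeats 0 in
theorem conn110 : checkConn T 8 112640 1024 = true := by
  decide +kernel

set_option maxHeartbeats 0 in
theorem words111 : checkWords T relWords 113664 1024 = true := by
  decide +kernel

set_option maxHeartbeats 0 in
theorem range111 : checkRange T 8 122760 113664 1024 = true := by
  decide +kernel

set_option maxHeartbeats 0 in
theorem conn111 : checkConn T 8 113664 1024 = true := by
  decide +kernel

set_option maxHeartbeats 0 in
theorem words112 : checkWords T relWords 114688 1024 = true := by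
  decide +kernel

set_option maxHeartbeats 0 in
theorem range112 : checkRange T 8 122760 114688 1024 = true := by
  decide +kernel

set_option maxHeartbeats 0 in
theorem conn112 : checkConn T 8 114688 1024 = true := by
  decide +kernel

set_option maxHeartbeats 0 in
theorem words113 : checkWords T relWords 115712 1024 = true := by
  decide +kernel

set_option maxHeartbeats 0 in
theorem range113 : checkRange T 8 122760 115712 1024 = true := by
  decide +kernel

set_option maxHeartbeats 0 in
theorem conn113 : checkConn T 8 115712 1024 = true := by
  decide +kernel

set_option maxHeartbeats 0 in
theorem words114 : checkWords T relWords 116736 1024 = true := by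
  decide +kernel

set_option maxHeartbeats 0 in
theorem range114 : checkRange T 8 122760 116736 1024 = true := by
  decide +kernel

set_option maxHeartbeats 0 in
theorem conn114 : checkConn T 8 116736 1024 = true := by
  decide +kernel

set_option maxHeartbeats 0 in
theorem words115 : checkWords T relWords 117760 1024 = true := by
  decide +kernel

set_option maxHeartbeats 0 in
theorem range115 : checkRange T 8 122760 117760 1024 = true := by
  decide +kernel

set_option maxHeartbeats 0 in
theorem conn115 : checkConn T 8 117760 1024 = true := by
  decide +kernel

set_option maxHeartbeats 0 in
theorem words116 : checkWords T relWords 118784 1024 = true := by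
  decide +kernel

set_option maxHeartbeats 0 in
theorem range116 : checkRange T 8 122760 118784 1024 = true := by
  decide +kernel

set_option maxHeartbeats 0 in
theorem conn116 : checkConn T 8 118784 1024 = true := by
  decide +kernel

set_option maxHeartbeats 0 in
theorem words117 : checkWords T relWords 119808 1024 = true := by
  decide +kernel

set_option maxHeartbeats 0 in
theorem range117 : checkRange T 8 122760 119808 1024 = true := by
  decide +kernel

set_option maxHeartbeats 0 in
theorem conn117 : checkConn T 8 119808 1024 = true := by
  decide +kernel

set_option maxHeartbeats 0 in
theorem words118 : checkWords T relWords 120832 1024 = true := by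
  decide +kernel

set_option maxHeartbeats 0 in
theorem range118 : checkRange T 8 122760 120832 1024 = true := by
  decide +kernel

set_option maxHeartbeats 0 in
theorem conn118 : checkConn T 8 120832 1024 = true := by
  decide +kernel

set_option maxHeartbeats 0 in
theorem words119 : checkWords T relWords 121856 904 = true := by
  decide +kernel

set_option maxHeartbeats 0 in
theorem range119 : checkRange T 8 122760 121856 904 = true := by
  decide +kernel

set_option maxHeartbeats 0 in
theorem conn119 : checkConn T 8 121856 904 = true := by
  decide +kernel

end Cfsg.Agent.Lib.H6.ONPerm
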