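import Cfsg.Agent.Lib.H6.ONPerm.Chk0
import Cfsg.Agent.Lib.H6.ONPerm.Chk1
import Cfsg.Agent.Lib.H6.ONPerm.Chk2
import Cfsg.Agent.Lib.H6.ONPerm.Chk3
import Cfsg.Agent.Lib.H6.ONPerm.Chk4
import Cfsg.Agent.Lib.H6.ONPerm.Chk5
import Cfsg.Agent.Lib.H6.ONPerm.Chk6
import Cfsg.Agent.Lib.H6.ONPerm.Chk7

set_option autoImplicit false
set_option maxRecDepth 1000000

/-! # the tables are good (generated) -/

namespace Cfsg.Agent.Lib.H6.ONPerm

open Cfsg.Agent.Lib.H17.CosetCert Cfsg.Agent.Lib.H6.PermTab

/-- the number of points -/
abbrev n : ℕ := 122760

theorem words_all : ∀ i < 122760, ∀ w ∈ relWords, applyW T w i = i := by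
  intro i hi
  have hk : i / 1024 < 120 := by omega
  have h1 : i / 1024 * 1024 ≤ i := Nat.div_mul_le_self i 1024
  have h2 : i < i / 1024 * 1024 + 1024 := by have := Nat.lt_div_mul_add (a := i) (b := 1024) (by norm_num); omega
  generalize i / 1024 = k at hk h1 h2
  interval_cases k
  · exact fun w hw => checkWords_sound T relWords _ _ words0 w hw i (by omega) (by omega)
  · exact fun w hw => checkWords_sound T relWords _ _ words1 w hw i (by omega) (by omega)
  · exact fun w hw => checkWords_sound T relWords _ _ words2 w hw i (by omega) (by omega)
  · exact fun w hw => checkWords_sound T relWords _ _ words3 w hw i (by omega) (by omega)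
  · exact fun w hw => checkWords_sound T relWords _ _ words4 w hw i (by omega) (by omega)
  · exact fun w hw => checkWords_sound T relWords _ _ words5 w hw i (by omega) (by omega)
  · exact fun w hw => checkWords_sound T relWords _ _ words6 w hw i (by omega) (by omega)
  · exact fun w hw => checkWords_sound T relWords _ _ words7 w hw i (by omega) (by omega)
  · exact fun w hw => checkWords_sound T relWords _ _ words8 w hw i (by omega) (by omega)
  · exact fun w hw => checkWords_sound T relWords _ _ words9 w hw i (by omega) (by omega)
  · exact fun w hw => checkWords_sound T relWords _ _ words10 w hw i (by omega) (by omega)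
  · exact fun w hw => checkWords_sound T relWords _ _ words11 w hw i (by omega) (by omega)
  · exact fun w hw => checkWords_sound T relWords _ _ words12 w hw i (by omega) (by omega)
  · exact fun w hw => checkWords_sound T relWords _ _ words13 w hw i (by omega) (by omega)
  · exact fun w hw => checkWords_sound T relWords _ _ words14 w hw i (by omega) (by omega)
  · exact fun w hw => checkWords_sound T relWords _ _ words15 w hw i (by omega) (by omega)
  · exact fun w hw => checkWords_sound T relWords _ _ words16 w hw i (by omega) (by omega)
  · exact fun w hw => checkWords_sound T relWords _ _ words17 w hw i (by omega) (by omega)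
  · exact fun w hw => checkWords_sound T relWords _ _ words18 w hw i (by omega) (by omega)
  · exact fun w hw => checkWords_sound T relWords _ _ words19 w hw i (by omega) (by omega)
  · exact fun w hw => checkWords_sound T relWords _ _ words20 w hw i (by omega) (by omega)
  · exact fun w hw => checkWords_sound T relWords _ _ words21 w hw i (by omega) (by omega)
  · exact fun w hw => checkWords_sound T relWords _ _ words22 w hw i (by omega) (by omega)
  · exact fun w hw => checkWords_sound T relWords _ _ words23 w hw i (by omega) (by omega)
  · exact fun w hw => checkWords_sound T relWords _ _ words24 w hw i (by omega) (by omega)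
  · exact fun w hw => checkWords_sound T relWords _ _ words25 w hw i (by omega) (by omega)
  · exact fun w hw => checkWords_sound T relWords _ _ words26 w hw i (by omega) (by omega)
  · exact fun w hw => checkWords_sound T relWords _ _ words27 w hw i (by omega) (by omega)
  · exact fun w hw => checkWords_sound T relWords _ _ words28 w hw i (by omega) (by omega)
  · exact fun w hw => checkWords_sound T relWords _ _ words29 w hw i (by omega) (by omega)
  · exact fun w hw => checkWords_sound T relWords _ _ words30 w hw i (by omega) (by omega)
  · exact fun w hw => checkWords_sound T relWords _ _ words31 w hw i (by omega) (by omega)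
  · exact fun w hw => checkWords_sound T relWords _ _ words32 w hw i (by omega) (by omega)
  · exact fun w hw => checkWords_sound T relWords _ _ words33 w hw i (by omega) (by omega)
  · exact fun w hw => checkWords_sound T relWords _ _ words34 w hw i (by omega) (by omega)
  · exact fun w hw => checkWords_sound T relWords _ _ words35 w hw i (by omega) (by omega)
  · exact fun w hw => checkWords_sound T relWords _ _ words36 w hw i (by omega) (by omega)
  · exact fun w hw => checkWords_sound T relWords _ _ words37 w hw i (by omega) (by omega)
  · exact fun w hw => checkWords_sound T relWords _ _ words38 w hw i (by omega) (by omega)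
  · exact fun w hw => checkWords_sound T relWords _ _ words39 w hw i (by omega) (by omega)
  · exact fun w hw => checkWords_sound T relWords _ _ words40 w hw i (by omega) (by omega)
  · exact fun w hw => checkWords_sound T relWords _ _ words41 w hw i (by omega) (by omega)
  · exact fun w hw => checkWords_sound T relWords _ _ words42 w hw i (by omega) (by omega)
  · exact fun w hw => checkWords_sound T relWords _ _ words43 w hw i (by omega) (by omega)
  · exact fun w hw => checkWords_sound T relWords _ _ words44 w hw i (by omega) (by omega)
  · exact fun w hw => checkWords_sound T relWords _ _ words45 w hw i (by omega) (by omega)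
  · exact fun w hw => checkWords_sound T relWords _ _ words46 w hw i (by omega) (by omega)
  · exact fun w hw => checkWords_sound T relWords _ _ words47 w hw i (by omega) (by omega)
  · exact fun w hw => checkWords_sound T relWords _ _ words48 w hw i (by omega) (by omega)
  · exact fun w hw => checkWords_sound T relWords _ _ words49 w hw i (by omega) (by omega)
  · exact fun w hw => checkWords_sound T relWords _ _ words50 w hw i (by omega) (by omega)
  · exact fun w hw => checkWords_sound T relWords _ _ words51 w hw i (by omega) (by omega)
  · exact fun w hw => checkWords_sound T relWords _ _ words52 w hw i (by omega) (by omega)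
  · exact fun w hw => checkWords_sound T relWords _ _ words53 w hw i (by omega) (by omega)
  · exact fun w hw => checkWords_sound T relWords _ _ words54 w hw i (by omega) (by omega)
  · exact fun w hw => checkWords_sound T relWords _ _ words55 w hw i (by omega) (by omega)
  · exact fun w hw => checkWords_sound T relWords _ _ words56 w hw i (by omega) (by omega)
  · exact fun w hw => checkWords_sound T relWords _ _ words57 w hw i (by omega) (by omega)
  · exact fun w hw => checkWords_sound T relWords _ _ words58 w hw i (by omega) (by omega)
  · exact fun w hw => checkWords_sound T relWords _ _ words59 w hw i (by omega) (by omega)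
  · exact fun w hw => checkWords_sound T relWords _ _ words60 w hw i (by omega) (by omega)
  · exact fun w hw => checkWords_sound T relWords _ _ words61 w hw i (by omega) (by omega)
  · exact fun w hw => checkWords_sound T relWords _ _ words62 w hw i (by omega) (by omega)
  · exact fun w hw => checkWords_sound T relWords _ _ words63 w hw i (by omega) (by omega)
  · exact fun w hw => checkWords_sound T relWords _ _ words64 w hw i (by omega) (by omega)
  · exact fun w hw => checkWords_sound T relWords _ _ words65 w hw i (by omega) (by omega)
  · exact fun w hw => checkWords_sound T relWords _ _ words66 w hw i (by omega) (by omega)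
  · exact fun w hw => checkWords_sound T relWords _ _ words67 w hw i (by omega) (by omega)
  · exact fun w hw => checkWords_sound T relWords _ _ words68 w hw i (by omega) (by omega)
  · exact fun w hw => checkWords_sound T relWords _ _ words69 w hw i (by omega) (by omega)
  · exact fun w hw => checkWords_sound T relWords _ _ words70 w hw i (by omega) (by omega)
  · exact fun w hw => checkWords_sound T relWords _ _ words71 w hw i (by omega) (by omega)
  · exact fun w hw => checkWords_sound T relWords _ _ words72 w hw i (by omega) (by omega)
  · exact fun w hw => checkWords_sound T relWords _ _ words73 w hw i (by omega) (by omega)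
  · exact fun w hw => checkWords_sound T relWords _ _ words74 w hw i (by omega) (by omega)
  · exact fun w hw => checkWords_sound T relWords _ _ words75 w hw i (by omega) (by omega)
  · exact fun w hw => checkWords_sound T relWords _ _ words76 w hw i (by omega) (by omega)
  · exact fun w hw => checkWords_sound T relWords _ _ words77 w hw i (by omega) (by omega)
  · exact fun w hw => checkWords_sound T relWords _ _ words78 w hw i (by omega) (by omega)
  · exact fun w hw => checkWords_sound T relWords _ _ words79 w hw i (by omega) (by omega)
  · exact fun w hw => checkWords_sound T relWords _ _ words80 w hw i (by omega) (by omega)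
  · exact fun w hw => checkWords_sound T relWords _ _ words81 w hw i (by omega) (by omega)
  · exact fun w hw => checkWords_sound T relWords _ _ words82 w hw i (by omega) (by omega)
  · exact fun w hw => checkWords_sound T relWords _ _ words83 w hw i (by omega) (by omega)
  · exact fun w hw => checkWords_sound T relWords _ _ words84 w hw i (by omega) (by omega)
  · exact fun w hw => checkWords_sound T relWords _ _ words85 w hw i (by omega) (by omega)
  · exact fun w hw => checkWords_sound T relWords _ _ words86 w hw i (by omega) (by omega)
  · exact fun w hw => checkWords_sound T relWords _ _ words87 w hw i (by omega) (by omega)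
  · exact fun w hw => checkWords_sound T relWords _ _ words88 w hw i (by omega) (by omega)
  · exact fun w hw => checkWords_sound T relWords _ _ words89 w hw i (by omega) (by omega)
  · exact fun w hw => checkWords_sound T relWords _ _ words90 w hw i (by omega) (by omega)
  · exact fun w hw => checkWords_sound T relWords _ _ words91 w hw i (by omega) (by omega)
  · exact fun w hw => checkWords_sound T relWords _ _ words92 w hw i (by omega) (by omega)
  · exact fun w hw => checkWords_sound T relWords _ _ words93 w hw i (by omega) (by omega)
  · exact fun w hw => checkWords_sound T relWords _ _ words94 w hw i (by omega) (by omega)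
  · exact fun w hw => checkWords_sound T relWords _ _ words95 w hw i (by omega) (by omega)
  · exact fun w hw => checkWords_sound T relWords _ _ words96 w hw i (by omega) (by omega)
  · exact fun w hw => checkWords_sound T relWords _ _ words97 w hw i (by omega) (by omega)
  · exact fun w hw => checkWords_sound T relWords _ _ words98 w hw i (by omega) (by omega)
  · exact fun w hw => checkWords_sound T relWords _ _ words99 w hw i (by omega) (by omega)
  · exact fun w hw => checkWords_sound T relWords _ _ words100 w hw i (by omega) (by omega)
  · exact fun w hw => checkWords_sound T relWords _ _ words101 w hw i (by omega) (by omega)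
  · exact fun w hw => checkWords_sound T relWords _ _ words102 w hw i (by omega) (by omega)
  · exact fun w hw => checkWords_sound T relWords _ _ words103 w hw i (by omega) (by omega)
  · exact fun w hw => checkWords_sound T relWords _ _ words104 w hw i (by omega) (by omega)
  · exact fun w hw => checkWords_sound T relWords _ _ words105 w hw i (by omega) (by omega)
  · exact fun w hw => checkWords_sound T relWords _ _ words106 w hw i (by omega) (by omega)
  · exact fun w hw => checkWords_sound T relWords _ _ words107 w hw i (by omega) (by omega)
  · exact fun w hw => checkWords_sound T relWords _ _ words108 w hw i (by omega) (by omega)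
  · exact fun w hw => checkWords_sound T relWords _ _ words109 w hw i (by omega) (by omega)
  · exact fun w hw => checkWords_sound T relWords _ _ words110 w hw i (by omega) (by omega)
  · exact fun w hw => checkWords_sound T relWords _ _ words111 w hw i (by omega) (by omega)
  · exact fun w hw => checkWords_sound T relWords _ _ words112 w hw i (by omega) (by omega)
  · exact fun w hw => checkWords_sound T relWords _ _ words113 w hw i (by omega) (by omega)
  · exact fun w hw => checkWords_sound T relWords _ _ words114 w hw i (by omega) (by omega)
  · exact fun w hw => checkWords_sound T relWords _ _ words115 w hw i (by omega) (by omega)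
  · exact fun w hw => checkWords_sound T relWords _ _ words116 w hw i (by omega) (by omega)
  · exact fun w hw => checkWords_sound T relWords _ _ words117 w hw i (by omega) (by omega)
  · exact fun w hw => checkWords_sound T relWords _ _ words118 w hw i (by omega) (by omega)
  · exact fun w hw => checkWords_sound T relWords _ _ words119 w hw i (by omega) (by omega)

theorem range_all : ∀ i < 122760, ∀ x < 8, T x i < 122760 := by
  intro i hi
  have hk : i / 1024 < 120 := by omega
  have h1 : i / 1024 * 1024 ≤ i := Nat.div_mul_le_self i 1024
  have h2 : i < i / 1024 * 1024 + 1024 := by have := Nat.lt_div_mul_add (a := i) (b := 1024) (by norm_num); omega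
  generalize i / 1024 = k at hk h1 h2
  interval_cases k
  · exact checkRange_sound T 8 122760 _ _ range0 i (by omega) (by omega)
  · exact checkRange_sound T 8 122760 _ _ range1 i (by omega) (by omega)
  · exact checkRange_sound T 8 122760 _ _ range2 i (by omega) (by omega)
  · exact checkRange_sound T 8 122760 _ _ range3 i (by omega) (by omega)
  · exact checkRange_sound T 8 122760 _ _ range4 i (by omega) (by omega)
  · exact checkRange_sound T 8 122760 _ _ range5 i (by omega) (by omega)
  · exact checkRange_sound T 8 122760 _ _ range6 i (by omega) (by omega)
  · exact checkRange_sound T 8 122760 _ _ range7 i (by omega) (by omega)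
  · exact checkRange_sound T 8 122760 _ _ range8 i (by omega) (by omega)
  · exact checkRange_sound T 8 122760 _ _ range9 i (by omega) (by omega)
  · exact checkRange_sound T 8 122760 _ _ range10 i (by omega) (by omega)
  · exact checkRange_sound T 8 122760 _ _ range11 i (by omega) (by omega)
  · exact checkRange_sound T 8 122760 _ _ range12 i (by omega) (by omega)
  · exact checkRange_sound T 8 122760 _ _ range13 i (by omega) (by omega)
  · exact checkRange_sound T 8 122760 _ _ range14 i (by omega) (by omega)
  · exact checkRange_sound T 8 122760 _ _ range15 i (by omega) (by omega)
  · exact checkRange_sound T 8 122760 _ _ range16 i (by omega) (by omega)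
  · exact checkRange_sound T 8 122760 _ _ range17 i (by omega) (by omega)
  · exact checkRange_sound T 8 122760 _ _ range18 i (by omega) (by omega)
  · exact checkRange_sound T 8 122760 _ _ range19 i (by omega) (by omega)
  · exact checkRange_sound T 8 122760 _ _ range20 i (by omega) (by omega)
  · exact checkRange_sound T 8 122760 _ _ range21 i (by omega) (by omega)
  · exact checkRange_sound T 8 122760 _ _ range22 i (by omega) (by omega)
  · exact checkRange_sound T 8 122760 _ _ range23 i (by omega) (by omega)
  · exact checkRange_sound T 8 122760 _ _ range24 i (by omega) (by omega)
  · exact checkRange_sound T 8 122760 _ _ range25 i (by omega) (by omega)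
  · exact checkRange_sound T 8 122760 _ _ range26 i (by omega) (by omega)
  · exact checkRange_sound T 8 122760 _ _ range27 i (by omega) (by omega)
  · exact checkRange_sound T 8 122760 _ _ range28 i (by omega) (by omega)
  · exact checkRange_sound T 8 122760 _ _ range29 i (by omega) (by omega)
  · exact checkRange_sound T 8 122760 _ _ range30 i (by omega) (by omega)
  · exact checkRange_sound T 8 122760 _ _ range31 i (by omega) (by omega)
  · exact checkRange_sound T 8 122760 _ _ range32 i (by omega) (by omega)
  · exact checkRange_sound T 8 122760 _ _ range33 i (by omega) (by omega)
  · exact checkRange_sound T 8 122760 _ _ range34 i (by omega) (by omega)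
  · exact checkRange_sound T 8 122760 _ _ range35 i (by omega) (by omega)
  · exact checkRange_sound T 8 122760 _ _ range36 i (by omega) (by omega)
  · exact checkRange_sound T 8 122760 _ _ range37 i (by omega) (by omega)
  · exact checkRange_sound T 8 122760 _ _ range38 i (by omega) (by omega)
  · exact checkRange_sound T 8 122760 _ _ range39 i (by omega) (by omega)
  · exact checkRange_sound T 8 122760 _ _ range40 i (by omega) (by omega)
  · exact checkRange_sound T 8 122760 _ _ range41 i (by omega) (by omega)
  · exact checkRange_sound T 8 122760 _ _ range42 i (by omega) (by omega)
  · exact checkRange_sound T 8 122760 _ _ range43 i (by omega) (by omega)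
  · exact checkRange_sound T 8 122760 _ _ range44 i (by omega) (by omega)
  · exact checkRange_sound T 8 122760 _ _ range45 i (by omega) (by omega)
  · exact checkRange_sound T 8 122760 _ _ range46 i (by omega) (by omega)
  · exact checkRange_sound T 8 122760 _ _ range47 i (by omega) (by omega)
  · exact checkRange_sound T 8 122760 _ _ range48 i (by omega) (by omega)
  · exact checkRange_sound T 8 122760 _ _ range49 i (by omega) (by omega)
  · exact checkRange_sound T 8 122760 _ _ range50 i (by omega) (by omega)
  · exact checkRange_sound T 8 122760 _ _ range51 i (by omega) (by omega)
  · exact checkRange_sound T 8 122760 _ _ range52 i (by omega) (by omega)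
  · exact checkRange_sound T 8 122760 _ _ range53 i (by omega) (by omega)
  · exact checkRange_sound T 8 122760 _ _ range54 i (by omega) (by omega)
  · exact checkRange_sound T 8 122760 _ _ range55 i (by omega) (by omega)
  · exact checkRange_sound T 8 122760 _ _ range56 i (by omega) (by omega)
  · exact checkRange_sound T 8 122760 _ _ range57 i (by omega) (by omega)
  · exact checkRange_sound T 8 122760 _ _ range58 i (by omega) (by omega)
  · exact checkRange_sound T 8 122760 _ _ range59 i (by omega) (by omega)
  · exact checkRange_sound T 8 122760 _ _ range60 i (by omega) (by omega)
  · exact checkRange_sound T 8 122760 _ _ range61 i (by omega) (by omega)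
  · exact checkRange_sound T 8 122760 _ _ range62 i (by omega) (by omega)
  · exact checkRange_sound T 8 122760 _ _ range63 i (by omega) (by omega)
  · exact checkRange_sound T 8 122760 _ _ range64 i (by omega) (by omega)
  · exact checkRange_sound T 8 122760 _ _ range65 i (by omega) (by omega)
  · exact checkRange_sound T 8 122760 _ _ range66 i (by omega) (by omega)
  · exact checkRange_sound T 8 122760 _ _ range67 i (by omega) (by omega)
  · exact checkRange_sound T 8 122760 _ _ range68 i (by omega) (by omega)
  · exact checkRange_sound T 8 122760 _ _ range69 i (by omega) (by omega)
  · exact checkRange_sound T 8 122760 _ _ range70 i (by omega) (by omega)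
  · exact checkRange_sound T 8 122760 _ _ range71 i (by omega) (by omega)
  · exact checkRange_sound T 8 122760 _ _ range72 i (by omega) (by omega)
  · exact checkRange_sound T 8 122760 _ _ range73 i (by omega) (by omega)
  · exact checkRange_sound T 8 122760 _ _ range74 i (by omega) (by omega)
  · exact checkRange_sound T 8 122760 _ _ range75 i (by omega) (by omega)
  · exact checkRange_sound T 8 122760 _ _ range76 i (by omega) (by omega)
  · exact checkRange_sound T 8 122760 _ _ range77 i (by omega) (by omega)
  · exact checkRange_sound T 8 122760 _ _ range78 i (by omega) (by omega)
  · exact checkRange_sound T 8 122760 _ _ range79 i (by omega) (by omega)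
  · exact checkRange_sound T 8 122760 _ _ range80 i (by omega) (by omega)
  · exact checkRange_sound T 8 122760 _ _ range81 i (by omega) (by omega)
  · exact checkRange_sound T 8 122760 _ _ range82 i (by omega) (by omega)
  · exact checkRange_sound T 8 122760 _ _ range83 i (by omega) (by omega)
  · exact checkRange_sound T 8 122760 _ _ range84 i (by omega) (by omega)
  · exact checkRange_sound T 8 122760 _ _ range85 i (by omega) (by omega)
  · exact checkRange_sound T 8 122760 _ _ range86 i (by omega) (by omega)
  · exact checkRange_sound T 8 122760 _ _ range87 i (by omega) (by omega)
  · exact checkRange_sound T 8 122760 _ _ range88 i (by omega) (by omega)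
  · exact checkRange_sound T 8 122760 _ _ range89 i (by omega) (by omega)
  · exact checkRange_sound T 8 122760 _ _ range90 i (by omega) (by omega)
  · exact checkRange_sound T 8 122760 _ _ range91 i (by omega) (by omega)
  · exact checkRange_sound T 8 122760 _ _ range92 i (by omega) (by omega)
  · exact checkRange_sound T 8 122760 _ _ range93 i (by omega) (by omega)
  · exact checkRange_sound T 8 122760 _ _ range94 i (by omega) (by omega)
  · exact checkRange_sound T 8 122760 _ _ range95 i (by omega) (by omega)
  · exact checkRange_sound T 8 122760 _ _ range96 i (by omega) (by omega)
  · exact checkRange_sound T 8 122760 _ _ range97 i (by omega) (by omega)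
  · exact checkRange_sound T 8 122760 _ _ range98 i (by omega) (by omega)
  · exact checkRange_sound T 8 122760 _ _ range99 i (by omega) (by omega)
  · exact checkRange_sound T 8 122760 _ _ range100 i (by omega) (by omega)
  · exact checkRange_sound T 8 122760 _ _ range101 i (by omega) (by omega)
  · exact checkRange_sound T 8 122760 _ _ range102 i (by omega) (by omega)
  · exact checkRange_sound T 8 122760 _ _ range103 i (by omega) (by omega)
  · exact checkRange_sound T 8 122760 _ _ range104 i (by omega) (by omega)
  · exact checkRange_sound T 8 122760 _ _ range105 i (by omega) (by omega)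
  · exact checkRange_sound T 8 122760 _ _ range106 i (by omega) (by omega)
  · exact checkRange_sound T 8 122760 _ _ range107 i (by omega) (by omega)
  · exact checkRange_sound T 8 122760 _ _ range108 i (by omega) (by omega)
  · exact checkRange_sound T 8 122760 _ _ range109 i (by omega) (by omega)
  · exact checkRange_sound T 8 122760 _ _ range110 i (by omega) (by omega)
  · exact checkRange_sound T 8 122760 _ _ range111 i (by omega) (by omega)
  · exact checkRange_sound T 8 122760 _ _ range112 i (by omega) (by omega)
  · exact checkRange_sound T 8 122760 _ _ range113 i (by omega) (by omega)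
  · exact checkRange_sound T 8 122760 _ _ range114 i (by omega) (by omega)
  · exact checkRange_sound T 8 122760 _ _ range115 i (by omega) (by omega)
  · exact checkRange_sound T 8 122760 _ _ range116 i (by omega) (by omega)
  · exact checkRange_sound T 8 122760 _ _ range117 i (by omega) (by omega)
  · exact checkRange_sound T 8 122760 _ _ range118 i (by omega) (by omega)
  · exact checkRange_sound T 8 122760 _ _ range119 i (by omega) (by omega)

theorem conn_all : ∀ i < 122760, i ≠ 0 → ∃ x < 8, T x i < i := by
  intro i hi
  have hk : i / 1024 < 120 := by omega
  have h1 : i / 1024 * 1024 ≤ i := Nat.div_mul_le_self i 1024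
  have h2 : i < i / 1024 * 1024 + 1024 := by have := Nat.lt_div_mul_add (a := i) (b := 1024) (by norm_num); omega
  generalize i / 1024 = k at hk h1 h2
  interval_cases k
  · exact checkConn_sound T 8 _ _ conn0 i (by omega) (by omega)
  · exact checkConn_sound T 8 _ _ conn1 i (by omega) (by omega)
  · exact checkConn_sound T 8 _ _ conn2 i (by omega) (by omega)
  · exact checkConn_sound T 8 _ _ conn3 i (by omega) (by omega)
  · exact checkConn_sound T 8 _ _ conn4 i (by omega) (by omega)
  · exact checkConn_sound T 8 _ _ conn5 i (by omega) (by omega)
  · exact checkConn_sound T 8 _ _ conn6 i (by omega) (by omega)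
  · exact checkConn_sound T 8 _ _ conn7 i (by omega) (by omega)
  · exact checkConn_sound T 8 _ _ conn8 i (by omega) (by omega)
  · exact checkConn_sound T 8 _ _ conn9 i (by omega) (by omega)
  · exact checkConn_sound T 8 _ _ conn10 i (by omega) (by omega)
  · exact checkConn_sound T 8 _ _ conn11 i (by omega) (by omega)
  · exact checkConn_sound T 8 _ _ conn12 i (by omega) (by omega)
  · exact checkConn_sound T 8 _ _ conn13 i (by omega) (by omega)
  · exact checkConn_sound T 8 _ _ conn14 i (by omega) (by omega)
  · exact checkConn_sound T 8 _ _ conn15 i (by omega) (by omega)
  · exact checkConn_sound T 8 _ _ conn16 i (by omega) (by omega)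
  · exact checkConn_sound T 8 _ _ conn17 i (by omega) (by omega)
  · exact checkConn_sound T 8 _ _ conn18 i (by omega) (by omega)
  · exact checkConn_sound T 8 _ _ conn19 i (by omega) (by omega)
  · exact checkConn_sound T 8 _ _ conn20 i (by omega) (by omega)
  · exact checkConn_sound T 8 _ _ conn21 i (by omega) (by omega)
  · exact checkConn_sound T 8 _ _ conn22 i (by omega) (by omega)
  · exact checkConn_sound T 8 _ _ conn23 i (by omega) (by omega)
  · exact checkConn_sound T 8 _ _ conn24 i (by omega) (by omega)
  · exact checkConn_sound T 8 _ _ conn25 i (by omega) (by omega)
  · exact checkConn_sound T 8 _ _ conn26 i (by omega) (by omega)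
  · exact checkConn_sound T 8 _ _ conn27 i (by omega) (by omega)
  · exact checkConn_sound T 8 _ _ conn28 i (by omega) (by omega)
  · exact checkConn_sound T 8 _ _ conn29 i (by omega) (by omega)
  · exact checkConn_sound T 8 _ _ conn30 i (by omega) (by omega)
  · exact checkConn_sound T 8 _ _ conn31 i (by omega) (by omega)
  · exact checkConn_sound T 8 _ _ conn32 i (by omega) (by omega)
  · exact checkConn_sound T 8 _ _ conn33 i (by omega) (by omega)
  · exact checkConn_sound T 8 _ _ conn34 i (by omega) (by omega)
  · exact checkConn_sound T 8 _ _ conn35 i (by omega) (by omega)
  · exact checkConn_sound T 8 _ _ conn36 i (by omega) (by omega)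
  · exact checkConn_sound T 8 _ _ conn37 i (by omega) (by omega)
  · exact checkConn_sound T 8 _ _ conn38 i (by omega) (by omega)
  · exact checkConn_sound T 8 _ _ conn39 i (by omega) (by omega)
  · exact checkConn_sound T 8 _ _ conn40 i (by omega) (by omega)
  · exact checkConn_sound T 8 _ _ conn41 i (by omega) (by omega)
  · exact checkConn_sound T 8 _ _ conn42 i (by omega) (by omega)
  · exact checkConn_sound T 8 _ _ conn43 i (by omega) (by omega)
  · exact checkConn_sound T 8 _ _ conn44 i (by omega) (by omega)
  · exact checkConn_sound T 8 _ _ conn45 i (by omega) (by omega)
  · exact checkConn_sound T 8 _ _ conn46 i (by omega) (by omega)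
  · exact checkConn_sound T 8 _ _ conn47 i (by omega) (by omega)
  · exact checkConn_sound T 8 _ _ conn48 i (by omega) (by omega)
  · exact checkConn_sound T 8 _ _ conn49 i (by omega) (by omega)
  · exact checkConn_sound T 8 _ _ conn50 i (by omega) (by omega)
  · exact checkConn_sound T 8 _ _ conn51 i (by omega) (by omega)
  · exact checkConn_sound T 8 _ _ conn52 i (by omega) (by omega)
  · exact checkConn_sound T 8 _ _ conn53 i (by omega) (by omega)
  · exact checkConn_sound T 8 _ _ conn54 i (by omega) (by omega)
  · exact checkConn_sound T 8 _ _ conn55 i (by omega) (by omega)
  · exact checkConn_sound T 8 _ _ conn56 i (by omega) (by omega)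
  · exact checkConn_sound T 8 _ _ conn57 i (by omega) (by omega)
  · exact checkConn_sound T 8 _ _ conn58 i (by omega) (by omega)
  · exact checkConn_sound T 8 _ _ conn59 i (by omega) (by omega)
  · exact checkConn_sound T 8 _ _ conn60 i (by omega) (by omega)
  · exact checkConn_sound T 8 _ _ conn61 i (by omega) (by omega)
  · exact checkConn_sound T 8 _ _ conn62 i (by omega) (by omega)
  · exact checkConn_sound T 8 _ _ conn63 i (by omega) (by omega)
  · exact checkConn_sound T 8 _ _ conn64 i (by omega) (by omega)
  · exact checkConn_sound T 8 _ _ conn65 i (by omega) (by omega)
  · exact checkConn_sound T 8 _ _ conn66 i (by omega) (by omega)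
  · exact checkConn_sound T 8 _ _ conn67 i (by omega) (by omega)
  · exact checkConn_sound T 8 _ _ conn68 i (by omega) (by omega)
  · exact checkConn_sound T 8 _ _ conn69 i (by omega) (by omega)
  · exact checkConn_sound T 8 _ _ conn70 i (by omega) (by omega)
  · exact checkConn_sound T 8 _ _ conn71 i (by omega) (by omega)
  · exact checkConn_sound T 8 _ _ conn72 i (by omega) (by omega)
  · exact checkConn_sound T 8 _ _ conn73 i (by omega) (by omega)
  · exact checkConn_sound T 8 _ _ conn74 i (by omega) (by omega)
  · exact checkConn_sound T 8 _ _ conn75 i (by omega) (by omega)
  · exact checkConn_sound T 8 _ _ conn76 i (by omega) (by omega)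
  · exact checkConn_sound T 8 _ _ conn77 i (by omega) (by omega)
  · exact checkConn_sound T 8 _ _ conn78 i (by omega) (by omega)
  · exact checkConn_sound T 8 _ _ conn79 i (by omega) (by omega)
  · exact checkConn_sound T 8 _ _ conn80 i (by omega) (by omega)
  · exact checkConn_sound T 8 _ _ conn81 i (by omega) (by omega)
  · exact checkConn_sound T 8 _ _ conn82 i (by omega) (by omega)
  · exact checkConn_sound T 8 _ _ conn83 i (by omega) (by omega)
  · exact checkConn_sound T 8 _ _ conn84 i (by omega) (by omega)
  · exact checkConn_sound T 8 _ _ conn85 i (by omega) (by omega)
  · exact checkConn_sound T 8 _ _ conn86 i (by omega) (by omega)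
  · exact checkConn_sound T 8 _ _ conn87 i (by omega) (by omega)
  · exact checkConn_sound T 8 _ _ conn88 i (by omega) (by omega)
  · exact checkConn_sound T 8 _ _ conn89 i (by omega) (by omega)
  · exact checkConn_sound T 8 _ _ conn90 i (by omega) (by omega)
  · exact checkConn_sound T 8 _ _ conn91 i (by omega) (by omega)
  · exact checkConn_sound T 8 _ _ conn92 i (by omega) (by omega)
  · exact checkConn_sound T 8 _ _ conn93 i (by omega) (by omega)
  · exact checkConn_sound T 8 _ _ conn94 i (by omega) (by omega)
  · exact checkConn_sound T 8 _ _ conn95 i (by omega) (by omega)
  · exact checkConn_sound T 8 _ _ conn96 i (by omega) (by omega)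
  · exact checkConn_sound T 8 _ _ conn97 i (by omega) (by omega)
  · exact checkConn_sound T 8 _ _ conn98 i (by omega) (by omega)
  · exact checkConn_sound T 8 _ _ conn99 i (by omega) (by omega)
  · exact checkConn_sound T 8 _ _ conn100 i (by omega) (by omega)
  · exact checkConn_sound T 8 _ _ conn101 i (by omega) (by omega)
  · exact checkConn_sound T 8 _ _ conn102 i (by omega) (by omega)
  · exact checkConn_sound T 8 _ _ conn103 i (by omega) (by omega)
  · exact checkConn_sound T 8 _ _ conn104 i (by omega) (by omega)
  · exact checkConn_sound T 8 _ _ conn105 i (by omega) (by omega)
  · exact checkConn_sound T 8 _ _ conn106 i (by omega) (by omega)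
  · exact checkConn_sound T 8 _ _ conn107 i (by omega) (by omega)
  · exact checkConn_sound T 8 _ _ conn108 i (by omega) (by omega)
  · exact checkConn_sound T 8 _ _ conn109 i (by omega) (by omega)
  · exact checkConn_sound T 8 _ _ conn110 i (by omega) (by omega)
  · exact checkConn_sound T 8 _ _ conn111 i (by omega) (by omega)
  · exact checkConn_sound T 8 _ _ conn112 i (by omega) (by omega)
  · exact checkConn_sound T 8 _ _ conn113 i (by omega) (by omega)
  · exact checkConn_sound T 8 _ _ conn114 i (by omega) (by omega)
  · exact checkConn_sound T 8 _ _ conn115 i (by omega) (by omega)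
  · exact checkConn_sound T 8 _ _ conn116 i (by omega) (by omega)
  · exact checkConn_sound T 8 _ _ conn117 i (by omega) (by omega)
  · exact checkConn_sound T 8 _ _ conn118 i (by omega) (by omega)
  · exact checkConn_sound T 8 _ _ conn119 i (by omega) (by omega)

end Cfsg.Agent.Lib.H6.ONPerm
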