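import Cfsg.Agent.Lib.H6.ONPerm.Tab

set_option autoImplicit false
set_option maxRecDepth 1000000

/-! # checks, part 0 (generated) -/

namespace Cfsg.Agent.Lib.H6.ONPerm

open Cfsg.Agent.Lib.H17.CosetCert Cfsg.Agent.Lib.H6.PermTab

set_option maxHeartbeats 0 in
theorem words0 : checkWords T relWords 0 1024 = true := by
  decide +kernel

set_option maxHeartbeats 0 in
theorem range0 : checkRange T 8 122760 0 1024 = true := by
  decide +kernel

set_option maxHeartbeats 0 in
theorem conn0 : checkConn T 8 0 1024 = true := by
  decide +kernel

set_option maxHeartbeats 0 in
theorem words1 : checkWords T relWords 1024 1024 = true := by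
  decide +kernel

set_option maxHeartbeats 0 in
theorem range1 : checkRange T 8 122760 1024 1024 = true := by
  decide +kernel

set_option maxHeartbeats 0 in
theorem conn1 : checkConn T 8 1024 1024 = true := by
  decide +kernel

set_option maxHeartbeats 0 in
theorem words2 : checkWords T relWords 2048 1024 = true := by
  decide +kernel

set_option maxHeartbeats 0 in
theorem range2 : checkRange T 8 122760 2048 1024 = true := by
  decide +kernel

set_option maxHeartbeats 0 in
theorem conn2 : checkConn T 8 2048 1024 = true := by
  decide +kernel

set_option maxHeartbeats 0 in
theorem words3 : checkWords T relWords 3072 1024 = true := by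
  decide +kernel

set_option maxHeartbeats 0 in
theorem range3 : checkRange T 8 122760 3072 1024 = true := by
  decide +kernel

set_option maxHeartbeats 0 in
theorem conn3 : checkConn T 8 3072 1024 = true := by
  decide +kernel

set_option maxHeartbeats 0 in
theorem words4 : checkWords T relWords 4096 1024 = true := by
  decide +kernel

set_option maxHeartbeats 0 in
theorem range4 : checkRange T 8 122760 4096 1024 = true := by
  decide +kernel

set_option maxHeartbeats 0 in
theorem conn4 : checkConn T 8 4096 1024 = true := by
  decide +kernel

set_option maxHeartbeats 0 in
theorem words5 : checkWords T relWords 5120 1024 = true := by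
  decide +kernel

set_option maxHeartbeats 0 in
theorem range5 : checkRange T 8 122760 5120 1024 = true := by
  decide +kernel

set_option maxHeartbeats 0 in
theorem conn5 : checkConn T 8 5120 1024 = true := by
  decide +kernel

set_option maxHeartbeats 0 in
theorem words6 : checkWords T relWords 6144 1024 = true := by
  decide +kernel

set_option maxHeartbeats 0 in
theorem range6 : checkRange T 8 122760 6144 1024 = true := by
  decide +kernel

set_option maxHeartbeats 0 in
theorem conn6 : checkConn T 8 6144 1024 = true := by
  decide +kernel

set_option maxHeartbeats 0 in
theorem words7 : checkWords T relWords 7168 1024 = true := by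
  decide +kernel

set_option maxHeartbeats 0 in
theorem range7 : checkRange T 8 122760 7168 1024 = true := by
  decide +kernel

set_option maxHeartbeats 0 in
theorem conn7 : checkConn T 8 7168 1024 = true := by
  decide +kernel

set_option maxHeartbeats 0 in
theorem words8 : checkWords T relWords 8192 1024 = true := by
  decide +kernel

set_option maxHeartbeats 0 in
theorem range8 : checkRange T 8 122760 8192 1024 = true := by
  decide +kernel

set_option maxHeartbeats 0 in
theorem conn8 : checkConn T 8 8192 1024 = true := by
  decide +kernel

set_option maxHeartbeats 0 in
theorem words9 : checkWords T relWords 9216 1024 = true := by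
  decide +kernel

set_option maxHeartbeats 0 in
theorem range9 : checkRange T 8 122760 9216 1024 = true := by
  decide +kernel

set_option maxHeartbeats 0 in
theorem conn9 : checkConn T 8 9216 1024 = true := by
  decide +kernel

set_option maxHeartbeats 0 in
theorem words10 : checkWords T relWords 10240 1024 = true := by
  decide +kernel

set_option maxHeartbeats 0 in
theorem range10 : checkRange T 8 122760 10240 1024 = true := by
  decide +kernel

set_option maxHeartbeats 0 in
theorem conn10 : checkConn T 8 10240 1024 = true := by
  decide +kernel

set_option maxHeartbeats 0 in
theorem words11 : checkWords T relWords 11264 1024 = true := by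
  decide +kernel

set_option maxHeartbeats 0 in
theorem range11 : checkRange T 8 122760 11264 1024 = true := by
  decide +kernel

set_option maxHeartbeats 0 in
theorem conn11 : checkConn T 8 11264 1024 = true := by
  decide +kernel

set_option maxHeartbeats 0 in
theorem words12 : checkWords T relWords 12288 1024 = true := by
  decide +kernel

set_option maxHeartbeats 0 in
theorem range12 : checkRange T 8 122760 12288 1024 = true := by
  decide +kernel

set_option maxHeartbeats 0 in
theorem conn12 : checkConn T 8 12288 1024 = true := by
  decide +kernel

set_option maxHeartbeats 0 in
theorem words13 : checkWords T relWords 13312 1024 = true := by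
  decide +kernel

set_option maxHeartbeats 0 in
theorem range13 : checkRange T 8 122760 13312 1024 = true := by
  decide +kernel

set_option maxHeartbeats 0 in
theorem conn13 : checkConn T 8 13312 1024 = true := by
  decide +kernel

set_option maxHeartbeats 0 in
theorem words14 : checkWords T relWords 14336 1024 = true := by
  decide +kernel

set_option maxHeartbeats 0 in
theorem range14 : checkRange T 8 122760 14336 1024 = true := by
  decide +kernel

set_option maxHeartbeats 0 in
theorem conn14 : checkConn T 8 14336 1024 = true := by
  decide +kernel

end Cfsg.Agent.Lib.H6.ONPerm
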